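import Groth.Agent.CurvLib.Line
import Groth.Agent.CurvLib.Finite0
import Mathlib.RingTheory.Ideal.KrullsHeightTheorem

/-!
# Primes of dimension one avoiding an element; curves in a scheme
-/

set_option autoImplicit false

universe u

open CategoryTheory AlgebraicGeometry TopologicalSpace

namespace CurveThroughLib

/-- In a local Noetherian ring a prime maximal among those avoiding a given element of the maximal ideal has
only the maximal ideal above it. -/
theorem eq_maximal_of_lt {A : Type u} [CommRing A] [IsLocalRing A] [IsNoetherianRing A] {t : A}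
    (ht : t ∈ IsLocalRing.maximalIdeal A) {p : Ideal A} [p.IsPrime] (htp : t ∉ p)
    (hmax : ∀ b : Ideal A, b.IsPrime → p < b → t ∈ b) (b : Ideal A) (hb : b.IsPrime) (hpb : p < b) :
    b = IsLocalRing.maximalIdeal A := by
  by_contra hbm
  let e := Ideal.Quotient.mk p
  have he : Function.Surjective e := Ideal.Quotient.mk_surjective
  have hker : ∀ {c : Ideal A}, p ≤ c → (c.map e).comap e = c := fun {c} hc => by
    rw [Ideal.comap_map_of_surjective _ he, ← RingHom.ker_eq_comap_bot, Ideal.mk_ker, sup_eq_left.2 hc]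
  have hb' : (b.map e).IsPrime := Ideal.map_isPrime_of_surjective he (by rw [Ideal.mk_ker]; exact hpb.le)
  have hm' : ((IsLocalRing.maximalIdeal A).map e).IsPrime :=
    Ideal.map_isPrime_of_surjective he (by rw [Ideal.mk_ker]; exact IsLocalRing.le_maximalIdeal (Ideal.IsPrime.ne_top ‹_›))
  -- the primes minimal over `t` do not cover the maximal ideal
  let S := (Ideal.span {e t}).minimalPrimes
  have hfin : S.Finite := Ideal.finite_minimalPrimes_of_isNoetherianRing _ _
  have hnot : ∀ Q ∈ S, ¬ (IsLocalRing.maximalIdeal A).map e ≤ Q := by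
    intro Q hQ hle
    haveI := hQ.1.1
    have h1 : Q.height ≤ 1 := Ideal.height_le_one_of_isPrincipal_of_mem_minimalPrimes _ _ hQ
    have h2 : b.map e < Q := lt_of_lt_of_le (lt_of_le_of_ne (Ideal.map_mono (IsLocalRing.le_maximalIdeal hb.ne_top))
      fun h => hbm (by
        rw [← hker hpb.le, h, hker (IsLocalRing.le_maximalIdeal (Ideal.IsPrime.ne_top ‹_›))])) hle
    haveI := hb'
    have h3 : (⊥ : Ideal (A ⧸ p)) < b.map e := bot_lt_iff_ne_bot.2 fun h => by
      have := hker hpb.le
      rw [h, ← RingHom.ker_eq_comap_bot, Ideal.mk_ker] at this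
      exact hpb.ne this
    have h4 := Ideal.height_strict_mono_of_isPrime h2
    have h5 := Ideal.height_strict_mono_of_isPrime h3
    rw [Ideal.height_bot] at h5
    have h6 : (1 : ℕ∞) ≤ (b.map e).height := Order.one_le_iff_pos.2 h5
    exact absurd (lt_of_lt_of_le (lt_of_le_of_lt h6 h4) h1) (lt_irrefl _)
  obtain ⟨s, hs, hsS⟩ : ∃ s ∈ (IsLocalRing.maximalIdeal A).map e, ∀ Q ∈ S, s ∉ Q := by
    by_contra hcon
    push Not at hcon
    have hsub : (((IsLocalRing.maximalIdeal A).map e : Ideal _) : Set (A ⧸ p)) ⊆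
        ⋃ Q ∈ (hfin.toFinset : Set (Ideal (A ⧸ p))), (Q : Set (A ⧸ p)) := fun s hs => by
      obtain ⟨Q, hQ, hsQ⟩ := hcon s hs
      exact Set.mem_iUnion₂.2 ⟨Q, hfin.mem_toFinset.2 hQ, hsQ⟩
    obtain ⟨Q, hQ, hle⟩ := (Ideal.subset_union_prime ⊥ ⊥ fun Q hQ _ _ => (hfin.mem_toFinset.1 hQ).1.1).1 hsub
    exact hnot Q (hfin.mem_toFinset.1 hQ) hle
  have hne : Ideal.span {s} ≠ ⊤ := fun h => hm'.ne_top (top_le_iff.1 (h ▸ (Ideal.span_singleton_le_iff_mem _).2 hs))
  obtain ⟨Q, hQ⟩ := Ideal.nonempty_minimalPrimes hne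
  haveI := hQ.1.1
  have hs0 : s ≠ 0 := fun h => by
    obtain ⟨Q', hQ'⟩ := Ideal.nonempty_minimalPrimes (I := Ideal.span {e t}) fun h' =>
      hm'.ne_top (top_le_iff.1 (h' ▸ (Ideal.span_singleton_le_iff_mem _).2 (Ideal.mem_map_of_mem _ ht)))
    exact hsS Q' hQ' (h ▸ zero_mem _)
  have hQne : Q ≠ ⊥ := fun h => hs0 (by
    have := hQ.1.2 (Ideal.mem_span_singleton_self s)
    rwa [h, Ideal.mem_bot] at this)
  have hpQ : p < Q.comap e := lt_of_le_of_ne (fun x hx => by
    rw [Ideal.mem_comap, show e x = 0 from Ideal.Quotient.eq_zero_iff_mem.2 hx]; exact zero_mem _) fun h => hQne (by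
      rw [← Ideal.map_comap_of_surjective _ he Q, ← h]
      exact Ideal.map_quotient_self p)
  have htQ : Ideal.span {e t} ≤ Q := (Ideal.span_singleton_le_iff_mem _).2 (hmax _ (Ideal.IsPrime.comap _) hpQ)
  obtain ⟨Q', hQ', hQ'Q⟩ := Ideal.exists_minimalPrimes_le htQ
  haveI := hQ'.1.1
  have het : e t ≠ 0 := fun h => htp (Ideal.Quotient.eq_zero_iff_mem.1 h)
  have h0 : (⊥ : Ideal (A ⧸ p)) < Q' := bot_lt_iff_ne_bot.2 fun h => het (by
    have := hQ'.1.2 (Ideal.mem_span_singleton_self (e t))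
    rwa [h, Ideal.mem_bot] at this)
  have h1 : Q.height ≤ 1 := Ideal.height_le_one_of_isPrincipal_of_mem_minimalPrimes _ _ hQ
  rcases eq_or_lt_of_le hQ'Q with h | h
  · exact hsS Q (h ▸ hQ') (hQ.1.2 (Ideal.mem_span_singleton_self s))
  · have h5 := Ideal.height_strict_mono_of_isPrime h0
    rw [Ideal.height_bot] at h5
    exact absurd (lt_of_lt_of_le (lt_of_le_of_lt (Order.one_le_iff_pos.2 h5) (Ideal.height_strict_mono_of_isPrime h)) h1)
      (lt_irrefl _)

/-- Proper closed subsets of an irreducible closed curve are finite sets of closed points. -/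
theorem finite_of_closed_ne {X : Scheme.{u}} [NoetherianSpace X] {B : Set X} (hBc : IsClosed B) (hBi : IsIrreducible B)
    (hBd : topologicalKrullDim B = 1) {T : Set X} (hT : IsClosed T) (hTB : T ⊆ B) (hne : T ≠ B) :
    T.Finite ∧ ∀ x ∈ T, IsClosed ({x} : Set X) := by
  haveI : IrreducibleSpace B := isIrreducible_iff_irreducibleSpace.1 hBi
  refine CurvLib.finite_isClosed_of_dim_le_zero hT ?_
  have h := CurvLib.topologicalKrullDim_le_zero_of_lt hBd (T := (Subtype.val ⁻¹' T : Set B))
    (hT.preimage continuous_subtype_val) fun h => hne (hTB.antisymm fun b hb => by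
      have : (⟨b, hb⟩ : B) ∈ (Subtype.val ⁻¹' T : Set B) := by rw [h]; trivial
      exact this)
  let e : T ≃ₜ (Subtype.val ⁻¹' T : Set B) :=
    { toFun := fun t => ⟨⟨t.1, hTB t.2⟩, t.2⟩
      invFun := fun t => ⟨t.1.1, t.2⟩
      left_inv := fun t => rfl
      right_inv := fun t => rfl
      continuous_toFun := by fun_prop
      continuous_invFun := by fun_prop }
  rwa [e.isHomeomorph.topologicalKrullDim_eq]

end CurveThroughLib
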